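import Cfsg.Agent.Helper40.Frame.Defs
import Cfsg.Agent.Helper5.OrthSimpleStd
import Cfsg.Agent.Helper44.PlusEmbed
import Cfsg.Agent.Helper44.OrthSum

/-!
# Two generators for `Ω⁻_{2k+2}(q)`: definitions (helper88, for S2415; after helper40's `OOdd/Defs.lean`)

`Q = minusForm k F a b` on `(Fin k ⊕ Fin k) ⊕ Fin 2 → F`
(`Q v = ∑ i, v (e i) * v (f i) + (v₀² + a v₀ v₁ + b v₁²)`), the standard frame `eV i`, `fV i` and the
basis `w1`, `w2` of the anisotropic plane.
-/

set_option autoImplicit false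

namespace Cfsg.Agent.Helper88.OMinus

open Matrix QuadraticMap Cfsg.Agent.Helper44 Cfsg.Agent.Helper45.OmegaParity Cfsg.Agent.Helper5
open Cfsg.Agent.Helper40.Frame

variable {F : Type*} [Field F] {k : ℕ} {a b : F}

/-- the index type -/
abbrev Idx (k : ℕ) := (Fin k ⊕ Fin k) ⊕ Fin 2

/-- the ambient isometry group of the minus form -/
abbrev OG (k : ℕ) (F : Type*) [Field F] (a b : F) := ↥(Cfsg.isometryGroup F ⇑(minusForm k F a b))

/-- `e_i` -/
def eV (i : Fin k) : Idx k → F := Pi.single (Sum.inl (Sum.inl i)) 1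

/-- `f_i` -/
def fV (i : Fin k) : Idx k → F := Pi.single (Sum.inl (Sum.inr i)) 1

/-- the first basis vector of the anisotropic plane -/
def w1 : Idx k → F := Pi.single (Sum.inr 0) 1

/-- the second basis vector of the anisotropic plane -/
def w2 : Idx k → F := Pi.single (Sum.inr 1) 1

theorem eV_e (i j : Fin k) : (eV i : Idx k → F) (Sum.inl (Sum.inl j)) = if j = i then 1 else 0 := by
  unfold eV
  by_cases h : j = i
  · subst h; rw [if_pos rfl, Pi.single_eq_same]
  · rw [if_neg h, Pi.single_eq_of_ne (fun h' => h (Sum.inl.inj (Sum.inl.inj h')))]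

theorem eV_f (i j : Fin k) : (eV i : Idx k → F) (Sum.inl (Sum.inr j)) = 0 := by
  unfold eV
  rw [Pi.single_eq_of_ne (by simp)]

theorem eV_w (i : Fin k) (c : Fin 2) : (eV i : Idx k → F) (Sum.inr c) = 0 := by
  unfold eV
  rw [Pi.single_eq_of_ne (by simp)]

theorem fV_f (i j : Fin k) : (fV i : Idx k → F) (Sum.inl (Sum.inr j)) = if j = i then 1 else 0 := by
  unfold fV
  by_cases h : j = i
  · subst h; rw [if_pos rfl, Pi.single_eq_same]
  · rw [if_neg h, Pi.single_eq_of_ne (fun h' => h (Sum.inr.inj (Sum.inl.inj h')))]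

theorem fV_e (i j : Fin k) : (fV i : Idx k → F) (Sum.inl (Sum.inl j)) = 0 := by
  unfold fV
  rw [Pi.single_eq_of_ne (by simp)]

theorem fV_w (i : Fin k) (c : Fin 2) : (fV i : Idx k → F) (Sum.inr c) = 0 := by
  unfold fV
  rw [Pi.single_eq_of_ne (by simp)]

theorem w1_0 : (w1 : Idx k → F) (Sum.inr 0) = 1 := by
  unfold w1
  rw [Pi.single_eq_same]

theorem w1_1 : (w1 : Idx k → F) (Sum.inr 1) = 0 := by
  unfold w1
  rw [Pi.single_eq_of_ne (by simp)]

theorem w1_e (j : Fin k) : (w1 : Idx k → F) (Sum.inl (Sum.inl j)) = 0 := by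
  unfold w1
  rw [Pi.single_eq_of_ne (by simp)]

theorem w1_f (j : Fin k) : (w1 : Idx k → F) (Sum.inl (Sum.inr j)) = 0 := by
  unfold w1
  rw [Pi.single_eq_of_ne (by simp)]

theorem w2_0 : (w2 : Idx k → F) (Sum.inr 0) = 0 := by
  unfold w2
  rw [Pi.single_eq_of_ne (by simp)]

theorem w2_1 : (w2 : Idx k → F) (Sum.inr 1) = 1 := by
  unfold w2
  rw [Pi.single_eq_same]

theorem w2_e (j : Fin k) : (w2 : Idx k → F) (Sum.inl (Sum.inl j)) = 0 := by
  unfold w2
  rw [Pi.single_eq_of_ne (by simp)]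

theorem w2_f (j : Fin k) : (w2 : Idx k → F) (Sum.inl (Sum.inr j)) = 0 := by
  unfold w2
  rw [Pi.single_eq_of_ne (by simp)]

theorem Q_apply (v : Idx k → F) :
    minusForm k F a b v = (∑ i : Fin k, v (Sum.inl (Sum.inl i)) * v (Sum.inl (Sum.inr i)))
      + (v (Sum.inr 0) ^ 2 + a * v (Sum.inr 0) * v (Sum.inr 1) + b * v (Sum.inr 1) ^ 2) := rfl

theorem polar_apply (u v : Idx k → F) :
    polar ⇑(minusForm k F a b) u v
      = (∑ i : Fin k, (u (Sum.inl (Sum.inl i)) * v (Sum.inl (Sum.inr i))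
          + v (Sum.inl (Sum.inl i)) * u (Sum.inl (Sum.inr i))))
        + (2 * u (Sum.inr 0) * v (Sum.inr 0)
          + a * (u (Sum.inr 0) * v (Sum.inr 1) + u (Sum.inr 1) * v (Sum.inr 0))
          + 2 * b * u (Sum.inr 1) * v (Sum.inr 1)) := by
  rw [minusForm_coe, polar_quadFormMinus, polar_quadFormPlus]
  rfl

theorem Q_eV (i : Fin k) : minusForm k F a b (eV i) = 0 := by
  rw [Q_apply, eV_w, eV_w]
  rw [Finset.sum_eq_zero]
  · ring
  · intro j _
    rw [eV_f, mul_zero]

theorem Q_fV (i : Fin k) : minusForm k F a b (fV i) = 0 := by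
  rw [Q_apply, fV_w, fV_w]
  rw [Finset.sum_eq_zero]
  · ring
  · intro j _
    rw [fV_e, zero_mul]

theorem Q_w1 : minusForm k F a b (w1 : Idx k → F) = 1 := by
  rw [Q_apply, w1_0, w1_1]
  rw [Finset.sum_eq_zero]
  · ring
  · intro j _
    rw [w1_e, zero_mul]

theorem Q_w2 : minusForm k F a b (w2 : Idx k → F) = b := by
  rw [Q_apply, w2_0, w2_1]
  rw [Finset.sum_eq_zero]
  · ring
  · intro j _
    rw [w2_e, zero_mul]

theorem polar_eV (i : Fin k) (v : Idx k → F) :
    polar ⇑(minusForm k F a b) (eV i) v = v (Sum.inl (Sum.inr i)) := by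
  rw [polar_apply, eV_w, eV_w, Finset.sum_eq_single i]
  · rw [eV_e, if_pos rfl, eV_f]; ring
  · intro j _ hj
    rw [eV_e, if_neg hj, eV_f, zero_mul, mul_zero, add_zero]
  · intro h; exact absurd (Finset.mem_univ _) h

theorem polar_fV (i : Fin k) (v : Idx k → F) :
    polar ⇑(minusForm k F a b) (fV i) v = v (Sum.inl (Sum.inl i)) := by
  rw [polar_apply, fV_w, fV_w, Finset.sum_eq_single i]
  · rw [fV_e, fV_f, if_pos rfl]; ring
  · intro j _ hj
    rw [fV_e, fV_f, if_neg hj, zero_mul, mul_zero, add_zero]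
  · intro h; exact absurd (Finset.mem_univ _) h

theorem polar_w1 (v : Idx k → F) :
    polar ⇑(minusForm k F a b) (w1 : Idx k → F) v = 2 * v (Sum.inr 0) + a * v (Sum.inr 1) := by
  rw [polar_apply, w1_0, w1_1, Finset.sum_eq_zero]
  · ring
  · intro j _
    rw [w1_e, w1_f, zero_mul, mul_zero, add_zero]

theorem polar_w2 (v : Idx k → F) :
    polar ⇑(minusForm k F a b) (w2 : Idx k → F) v = a * v (Sum.inr 0) + 2 * b * v (Sum.inr 1) := by
  rw [polar_apply, w2_0, w2_1, Finset.sum_eq_zero]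
  · ring
  · intro j _
    rw [w2_e, w2_f, zero_mul, mul_zero, add_zero]

/-- the standard frame -/
def frame (k : ℕ) (F : Type*) [Field F] (a b : F) : HFrame (minusForm k F a b) k where
  e := eV
  f := fV
  Qe := Q_eV
  Qf := Q_fV
  ee i j := by rw [polar_eV, eV_f]
  ff i j := by rw [polar_fV, fV_e]
  ef i j := by
    rw [polar_eV, fV_f]

theorem frame_e (i : Fin k) : (frame k F a b).e i = eV i := rfl

theorem frame_f (i : Fin k) : (frame k F a b).f i = fV i := rfl

theorem mem_W_iff (z : Idx k → F) :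
    z ∈ (frame k F a b).W ↔ z = z (Sum.inr 0) • w1 + z (Sum.inr 1) • w2 := by
  constructor
  · intro hz
    funext c
    rcases c with (c | c) | c
    · have := (hz c).2
      rw [frame_f, polar_fV] at this
      rw [this, Pi.add_apply, Pi.smul_apply, Pi.smul_apply, w1_e, w2_e, smul_zero, smul_zero, add_zero]
    · have := (hz c).1
      rw [frame_e, polar_eV] at this
      rw [this, Pi.add_apply, Pi.smul_apply, Pi.smul_apply, w1_f, w2_f, smul_zero, smul_zero, add_zero]
    · have hc : c = 0 ∨ c = 1 := by fin_cases c <;> simp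
      rcases hc with rfl | rfl
      · rw [Pi.add_apply, Pi.smul_apply, Pi.smul_apply, w1_0, w2_0, smul_eq_mul, smul_eq_mul, mul_one,
          mul_zero, add_zero]
      · rw [Pi.add_apply, Pi.smul_apply, Pi.smul_apply, w1_1, w2_1, smul_eq_mul, smul_eq_mul, mul_one,
          mul_zero, zero_add]
  · intro hz i
    rw [hz, frame_e, frame_f, polar_eV, polar_fV, Pi.add_apply, Pi.add_apply, Pi.smul_apply,
      Pi.smul_apply, Pi.smul_apply, Pi.smul_apply, w1_e, w1_f, w2_e, w2_f, smul_zero, smul_zero, add_zero]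
    exact ⟨rfl, rfl⟩

theorem w1_mem_W : (w1 : Idx k → F) ∈ (frame k F a b).W := by
  rw [mem_W_iff, w1_0, w1_1, one_smul, zero_smul, add_zero]

theorem w2_mem_W : (w2 : Idx k → F) ∈ (frame k F a b).W := by
  rw [mem_W_iff, w2_0, w2_1, one_smul, zero_smul, zero_add]

theorem comb_mem_W (s t : F) : s • (w1 : Idx k → F) + t • w2 ∈ (frame k F a b).W :=
  (frame k F a b).W.add_mem ((frame k F a b).W.smul_mem s w1_mem_W)
    ((frame k F a b).W.smul_mem t w2_mem_W)

theorem Q_comb (s t : F) :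
    minusForm k F a b (s • (w1 : Idx k → F) + t • w2) = s ^ 2 + a * s * t + b * t ^ 2 := by
  rw [Q_apply]
  simp only [Pi.add_apply, Pi.smul_apply, w1_0, w1_1, w2_0, w2_1, w1_e, w1_f, w2_e, w2_f, smul_eq_mul,
    mul_one, mul_zero, add_zero, zero_add, Finset.sum_const_zero]

theorem aniso (hab : ∀ z₁ z₂ : F, z₁ ^ 2 + a * z₁ * z₂ + b * z₂ ^ 2 = 0 → z₁ = 0 ∧ z₂ = 0)
    (z : Idx k → F) (hz : z ∈ (frame k F a b).W) (hQ : minusForm k F a b z = 0) : z = 0 := by
  rw [mem_W_iff] at hz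
  rw [hz, Q_comb] at hQ
  obtain ⟨h1, h2⟩ := hab _ _ hQ
  rw [hz, h1, h2, zero_smul, zero_smul, add_zero]

theorem card_idx (k : ℕ) : Fintype.card (Idx k) = 2 * k + 2 := by
  rw [Fintype.card_sum, Fintype.card_sum, Fintype.card_fin, Fintype.card_fin]; ring

/-- `Ω` is generated by the Eichler transformations -/
theorem Omega_eq [Fintype F]
    (hab : ∀ z₁ z₂ : F, z₁ ^ 2 + a * z₁ * z₂ + b * z₂ ^ 2 = 0 → z₁ = 0 ∧ z₂ = 0) (hk : 2 ≤ k) :
    Cfsg.Omega F ⇑(minusForm k F a b) = eichlerGroup (minusForm k F a b) :=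
  Omega_eq_eichlerGroup (minusForm k F a b) (nondegenerate_minusForm_of_aniso k a b hab)
    (by rw [card_idx]; omega)

theorem eichlerO_mem_Omega' [Fintype F]
    (hab : ∀ z₁ z₂ : F, z₁ ^ 2 + a * z₁ * z₂ + b * z₂ ^ 2 = 0 → z₁ = 0 ∧ z₂ = 0) (hk : 2 ≤ k)
    (u w : Idx k → F) :
    eichlerO (minusForm k F a b) u w ∈ Cfsg.Omega F ⇑(minusForm k F a b) := by
  rw [Omega_eq hab hk]
  exact eichlerO_mem_eichlerGroup _ u w

/-- isometries agreeing on the standard basis are equal -/
theorem isom_ext_basis {g h : OG k F a b}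
    (h1 : lin (minusForm k F a b) g w1 = lin (minusForm k F a b) h w1)
    (h2 : lin (minusForm k F a b) g w2 = lin (minusForm k F a b) h w2)
    (he : ∀ j : Fin k, lin (minusForm k F a b) g (eV j) = lin (minusForm k F a b) h (eV j))
    (hf : ∀ j : Fin k, lin (minusForm k F a b) g (fV j) = lin (minusForm k F a b) h (fV j)) : g = h := by
  apply isom_ext
  have : lin (minusForm k F a b) g = lin (minusForm k F a b) h := by
    apply LinearMap.pi_ext'
    intro c
    apply LinearMap.ext_ring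
    rw [LinearMap.comp_apply, LinearMap.comp_apply, LinearMap.single_apply]
    rcases c with (c | c) | c
    · exact he c
    · exact hf c
    · have hc : c = 0 ∨ c = 1 := by fin_cases c <;> simp
      rcases hc with rfl | rfl
      · exact h1
      · exact h2
  intro x
  rw [this]

/-- the binary form `x² + a x y + b y²` on `Fin 2 → F` -/
def bin (F : Type*) [Field F] (a b : F) : (Fin 2 → F) → F :=
  fun u => u 0 ^ 2 + a * u 0 * u 1 + b * u 1 ^ 2

/-- `A ↦ diag(A, A⁻ᵀ, 1₂)` on `SL_k` -/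
def io : Matrix.SpecialLinearGroup (Fin k) F →* OG k F a b :=
  (blockDiagIso (quadFormPlus k F) (bin F a b)).comp
    ((MonoidHom.inl _ _).comp ((plusEmbed (F := F) (m := k)).comp Matrix.SpecialLinearGroup.toGL))

theorem io_coe (A : Matrix.SpecialLinearGroup (Fin k) F) :
    ((((io A : OG k F a b)) : GL (Idx k) F) : Matrix (Idx k) (Idx k) F)
      = Matrix.fromBlocks
          (Matrix.fromBlocks (A : Matrix (Fin k) (Fin k) F) 0 0
            ((A⁻¹ : Matrix.SpecialLinearGroup (Fin k) F) : Matrix (Fin k) (Fin k) F)ᵀ) 0 0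
          (1 : Matrix (Fin 2) (Fin 2) F) := rfl

end Cfsg.Agent.Helper88.OMinus
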