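import Cfsg.Agent.Helper40.Frame.Main

/-!
# The generation criterion for a hyperbolic frame whose complement is spanned by TWO vectors
(helper88, for S2415; a variant of helper40's `Frame.frame_le`): one element `y₁` produces the root
elements `E(e_i, s z₁)`, one element `y₂` produces `E(f_i, s z₂)`, and the Weyl element
`n = x_{ε_i+ε_j}(1) x_{-ε_i-ε_j}(1) x_{ε_i+ε_j}(1)` (`e_i ↦ -f_j`, `f_i ↦ -e_j`, trivial on the complement)
moves each family to the other side.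
-/

set_option autoImplicit false

namespace Cfsg.Agent.Helper88.OMinus

open Matrix QuadraticMap Cfsg.Agent.Helper44 Cfsg.Agent.Helper45.OmegaParity Cfsg.Agent.Helper5
open Cfsg.Agent.Helper40.Frame

variable {F : Type*} [Field F] {ι : Type} [Fintype ι] [DecidableEq ι]
variable {Q : QuadraticForm F (ι → F)} {k : ℕ} (Fr : HFrame Q k)

/-- the Weyl element of the root `ε_i + ε_j` -/
noncomputable def weyl (i j : Fin k) : Cfsg.isometryGroup F ⇑Q :=
  Fr.xpp i j 1 * Fr.xmm i j 1 * Fr.xpp i j 1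

theorem weyl_e {i j : Fin k} (hij : i ≠ j) : lin Q (weyl Fr i j) (Fr.e i) = -Fr.f j := by
  have h1 : lin Q (Fr.xpp i j 1) (Fr.e i) = Fr.e i := Fr.xpp_e i j i 1
  have h2 : lin Q (Fr.xmm i j 1) (Fr.e i) = Fr.e i - Fr.f j := by
    rw [Fr.xmm_e, if_neg hij, if_pos rfl, zero_smul, add_zero, one_smul]
  have h3 : lin Q (Fr.xpp i j 1) (Fr.f j) = Fr.f j + Fr.e i := by
    rw [Fr.xpp_f, if_pos rfl, if_neg hij.symm, one_smul, zero_smul, sub_zero]
  unfold weyl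
  rw [lin_mul_apply, lin_mul_apply, h1, h2, map_sub, h1, h3]
  abel

theorem weyl_f {i j : Fin k} (hij : i ≠ j) : lin Q (weyl Fr i j) (Fr.f i) = -Fr.e j := by
  have h1 : lin Q (Fr.xpp i j 1) (Fr.f i) = Fr.f i - Fr.e j := by
    rw [Fr.xpp_f, if_neg hij, if_pos rfl, zero_smul, add_zero, one_smul]
  have h2 : lin Q (Fr.xmm i j 1) (Fr.f i) = Fr.f i := Fr.xmm_f i j i 1
  have h3 : lin Q (Fr.xmm i j 1) (Fr.e j) = Fr.e j + Fr.f i := by
    rw [Fr.xmm_e, if_pos rfl, if_neg hij.symm, one_smul, zero_smul, sub_zero]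
  have h4 : lin Q (Fr.xpp i j 1) (Fr.e j) = Fr.e j := Fr.xpp_e i j j 1
  unfold weyl
  rw [lin_mul_apply, lin_mul_apply, h1, map_sub, h2, h3, map_sub, map_add, h1, h4]
  abel

theorem weyl_W (i j : Fin k) {z : ι → F} (hz : z ∈ Fr.W) : lin Q (weyl Fr i j) z = z := by
  unfold weyl
  rw [lin_mul_apply, lin_mul_apply, Fr.xpp_W i j 1 hz, Fr.xmm_W i j 1 hz, Fr.xpp_W i j 1 hz]

theorem weyl_mem (L : Subgroup (Cfsg.isometryGroup F ⇑Q)) {i j : Fin k} (hij : i ≠ j)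
    (hpp : ∀ i j : Fin k, i ≠ j → ∀ t : F, Fr.xpp i j t ∈ L)
    (hmm : ∀ i j : Fin k, i ≠ j → ∀ t : F, Fr.xmm i j t ∈ L) : weyl Fr i j ∈ L :=
  L.mul_mem (L.mul_mem (hpp i j hij 1) (hmm i j hij 1)) (hpp i j hij 1)

/-- conjugating `E(e_i, z)` by the Weyl element gives `E(f_j, -z)` -/
theorem weyl_conj_xe {i j : Fin k} (hij : i ≠ j) {z : ι → F} (hz : z ∈ Fr.W) :
    weyl Fr i j * Fr.xe i z * (weyl Fr i j)⁻¹ = Fr.xf j (-z) := by
  rw [Fr.conj_xe _ i hz, weyl_e Fr hij, weyl_W Fr i j hz]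
  have h := eichlerO_smul_left Q (Fr.Qf j) (Fr.polar_f_W hz j) (-1 : F)
  rw [neg_one_smul, neg_one_smul] at h
  rw [h]
  rfl

/-- conjugating `E(f_i, z)` by the Weyl element gives `E(e_j, -z)` -/
theorem weyl_conj_xf {i j : Fin k} (hij : i ≠ j) {z : ι → F} (hz : z ∈ Fr.W) :
    weyl Fr i j * Fr.xf i z * (weyl Fr i j)⁻¹ = Fr.xe j (-z) := by
  rw [Fr.conj_xf _ i hz, weyl_f Fr hij, weyl_W Fr i j hz]
  have h := eichlerO_smul_left Q (Fr.Qe j) (Fr.polar_e_W hz j) (-1 : F)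
  rw [neg_one_smul, neg_one_smul] at h
  rw [h]
  rfl

/-- the generation criterion for a frame whose complement is spanned by `z₁` (the complement part of
`y₁ f_p`) and `z₂` (the complement part of `y₂ e_p`) -/
theorem frame_le_w (haniso : ∀ z ∈ Fr.W, Q z = 0 → z = 0) (L : Subgroup (Cfsg.isometryGroup F ⇑Q))
    (hpm : ∀ i j : Fin k, i ≠ j → ∀ t : F, Fr.xpm i j t ∈ L)
    (y₁ y₂ : Cfsg.isometryGroup F ⇑Q) (hy₁ : y₁ ∈ L) (hy₂ : y₂ ∈ L)
    (i p j : Fin k) (hip : i ≠ p) (hij : i ≠ j) (hjp : j ≠ p)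
    (h1e : lin Q y₁ (Fr.e i) = Fr.e i) (α₁ β₁ : F) (z₁ : ι → F) (hz₁ : z₁ ∈ Fr.W) (hβ₁ : β₁ ≠ 0)
    (h1f : lin Q y₁ (Fr.f p) = α₁ • Fr.f p + β₁ • Fr.e p + z₁)
    (h2f : lin Q y₂ (Fr.f i) = Fr.f i) (α₂ β₂ : F) (z₂ : ι → F) (hz₂ : z₂ ∈ Fr.W) (hβ₂ : β₂ ≠ 0)
    (h2e : lin Q y₂ (Fr.e p) = α₂ • Fr.e p + β₂ • Fr.f p + z₂)
    (hW : ∀ z ∈ Fr.W, ∃ s s' : F, z = s • z₁ + s' • z₂) :
    eichlerGroup Q ≤ L := by
  have hpp0 := ystep_pp Fr L hpm y₁ hy₁ i p j hip hij hjp h1e α₁ β₁ z₁ hz₁ hβ₁ h1f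
  have hpp := spread_pp Fr L hpm i j hij hpp0
  have hmm0 := ystep_mm Fr L hpm y₂ hy₂ i p j hip hij hjp h2f α₂ β₂ z₂ hz₂ hβ₂ h2e
  have hmm := spread_mm Fr L hpm i j hij hmm0
  have he0 := ystep_e Fr L hpm hpp y₁ hy₁ i p hip h1e α₁ β₁ z₁ hz₁ h1f
  have hf0 := ystep_f Fr L hpm hmm y₂ hy₂ i p hip h2f α₂ β₂ z₂ hz₂ h2e
  have hn : weyl Fr i j ∈ L := weyl_mem Fr L hij hpp hmm
  -- the other two families, at the index `j`
  have hf0' : ∀ s : F, Fr.xf j (s • z₁) ∈ L := by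
    intro s
    have h := weyl_conj_xe Fr hij (Fr.W.smul_mem (-s) hz₁)
    rw [← neg_smul, neg_neg] at h
    rw [← h]
    exact L.mul_mem (L.mul_mem hn (he0 (-s))) (L.inv_mem hn)
  have he0' : ∀ s : F, Fr.xe j (s • z₂) ∈ L := by
    intro s
    have h := weyl_conj_xf Fr hij (Fr.W.smul_mem (-s) hz₂)
    rw [← neg_smul, neg_neg] at h
    rw [← h]
    exact L.mul_mem (L.mul_mem hn (hf0 (-s))) (L.inv_mem hn)
  -- spread the one-dimensional families to all indices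
  have he1 := spread_e Fr L hpm hpp i (Submodule.span F {z₁})
    (by rw [Submodule.span_le]; intro z hz; rw [Set.mem_singleton_iff] at hz; rw [hz]; exact hz₁)
    (by
      intro z hz
      obtain ⟨s, rfl⟩ := Submodule.mem_span_singleton.1 hz
      exact he0 s)
  have he2 := spread_e Fr L hpm hpp j (Submodule.span F {z₂})
    (by rw [Submodule.span_le]; intro z hz; rw [Set.mem_singleton_iff] at hz; rw [hz]; exact hz₂)
    (by
      intro z hz
      obtain ⟨s, rfl⟩ := Submodule.mem_span_singleton.1 hz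
      exact he0' s)
  have hf1 := spread_f Fr L hpm hmm j (Submodule.span F {z₁})
    (by rw [Submodule.span_le]; intro z hz; rw [Set.mem_singleton_iff] at hz; rw [hz]; exact hz₁)
    (by
      intro z hz
      obtain ⟨s, rfl⟩ := Submodule.mem_span_singleton.1 hz
      exact hf0' s)
  have hf2 := spread_f Fr L hpm hmm i (Submodule.span F {z₂})
    (by rw [Submodule.span_le]; intro z hz; rw [Set.mem_singleton_iff] at hz; rw [hz]; exact hz₂)
    (by
      intro z hz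
      obtain ⟨s, rfl⟩ := Submodule.mem_span_singleton.1 hz
      exact hf0 s)
  have he : ∀ l : Fin k, ∀ z ∈ Fr.W, Fr.xe l z ∈ L := by
    intro l z hz
    obtain ⟨s, s', rfl⟩ := hW z hz
    rw [← Fr.xe_add l (Fr.W.smul_mem s hz₁) (Fr.W.smul_mem s' hz₂)]
    exact L.mul_mem (he1 l _ (Submodule.smul_mem _ s (Submodule.mem_span_singleton_self z₁)))
      (he2 l _ (Submodule.smul_mem _ s' (Submodule.mem_span_singleton_self z₂)))
  have hf : ∀ l : Fin k, ∀ z ∈ Fr.W, Fr.xf l z ∈ L := by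
    intro l z hz
    obtain ⟨s, s', rfl⟩ := hW z hz
    rw [← Fr.xf_add l (Fr.W.smul_mem s hz₁) (Fr.W.smul_mem s' hz₂)]
    exact L.mul_mem (hf1 l _ (Submodule.smul_mem _ s (Submodule.mem_span_singleton_self z₁)))
      (hf2 l _ (Submodule.smul_mem _ s' (Submodule.mem_span_singleton_self z₂)))
  exact crit Fr haniso L hpp hpm hmm he hf

end Cfsg.Agent.Helper88.OMinus
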