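import Cfsg.Agent.Helper88.OMinus.Pieces
import Cfsg.Agent.Helper88.OMinus.FrameLeW
import Cfsg.Agent.Helper40.OPlus.SLEx
import Cfsg.Agent.Helper40.OPlus.YDefs
import Cfsg.Agent.Helper18.Gen.Abs
import Cfsg.Agent.S2402
import Cfsg.Agent.S2403

/-!
# Two generators for `PΩ⁻_{2k+2}(q)`, `k ≥ 3` (helper88, S2415; after helper40's S2413/S2414 architecture)
-/

set_option autoImplicit false

namespace Cfsg.Agent.Helper88.OMinus

open Matrix QuadraticMap Cfsg.Agent.Helper44 Cfsg.Agent.Helper45.OmegaParity Cfsg.Agent.Helper5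
open Cfsg.Agent.Helper40.Frame

variable {F : Type*} [Field F] {k : ℕ} {a b : F}

/-- two vectors of the plane with nonzero determinant span it -/
theorem span_W (u₁ u₂ v₁ v₂ : F) (hdet : u₁ * v₂ - u₂ * v₁ ≠ 0) (z : Idx k → F)
    (hz : z ∈ (frame k F a b).W) :
    ∃ s s' : F, z = s • (u₁ • (w1 : Idx k → F) + u₂ • w2) + s' • (v₁ • (w1 : Idx k → F) + v₂ • w2) := by
  rw [mem_W_iff] at hz
  obtain ⟨c₁, c₂, hc⟩ : ∃ c₁ c₂ : F, z = c₁ • (w1 : Idx k → F) + c₂ • w2 := ⟨_, _, hz⟩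
  refine ⟨(c₁ * v₂ - c₂ * v₁) * (u₁ * v₂ - u₂ * v₁)⁻¹, (u₁ * c₂ - u₂ * c₁) * (u₁ * v₂ - u₂ * v₁)⁻¹, ?_⟩
  have e1 : (c₁ * v₂ - c₂ * v₁) * (u₁ * v₂ - u₂ * v₁)⁻¹ * u₁
      + (u₁ * c₂ - u₂ * c₁) * (u₁ * v₂ - u₂ * v₁)⁻¹ * v₁ = c₁ := by
    have : (c₁ * v₂ - c₂ * v₁) * (u₁ * v₂ - u₂ * v₁)⁻¹ * u₁
      + (u₁ * c₂ - u₂ * c₁) * (u₁ * v₂ - u₂ * v₁)⁻¹ * v₁
        = c₁ * ((u₁ * v₂ - u₂ * v₁) * (u₁ * v₂ - u₂ * v₁)⁻¹) := by ring
    rw [this, mul_inv_cancel₀ hdet, mul_one]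
  have e2 : (c₁ * v₂ - c₂ * v₁) * (u₁ * v₂ - u₂ * v₁)⁻¹ * u₂
      + (u₁ * c₂ - u₂ * c₁) * (u₁ * v₂ - u₂ * v₁)⁻¹ * v₂ = c₂ := by
    have : (c₁ * v₂ - c₂ * v₁) * (u₁ * v₂ - u₂ * v₁)⁻¹ * u₂
      + (u₁ * c₂ - u₂ * c₁) * (u₁ * v₂ - u₂ * v₁)⁻¹ * v₂
        = c₂ * ((u₁ * v₂ - u₂ * v₁) * (u₁ * v₂ - u₂ * v₁)⁻¹) := by ring
    rw [this, mul_inv_cancel₀ hdet, mul_one]
  rw [hc]
  conv_lhs => rw [← e1, ← e2]
  module

/-- the general generation lemma -/
theorem gen_of [Fintype F]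
    (hab : ∀ z₁ z₂ : F, z₁ ^ 2 + a * z₁ * z₂ + b * z₂ ^ 2 = 0 → z₁ = 0 ∧ z₂ = 0) (hk : 3 ≤ k)
    (A B : Matrix.SpecialLinearGroup (Fin k) F)
    (hAB : Subgroup.closure ({A, B} : Set (Matrix.SpecialLinearGroup (Fin k) F)) = ⊤)
    (y : OG k F a b) (hcomm : Commute (io A) y) (n₁ n₂ : ℕ) (h1 : (io A : OG k F a b) ^ n₁ = 1)
    (hy2 : y ^ n₂ = 1) (hcop : Nat.Coprime n₁ n₂)
    (i p j : Fin k) (hip : i ≠ p) (hij : i ≠ j) (hjp : j ≠ p)
    (h1e : lin (minusForm k F a b) y (eV i) = eV i) (α₁ β₁ : F) (z₁ : Idx k → F)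
    (hz₁ : z₁ ∈ (frame k F a b).W) (hβ₁ : β₁ ≠ 0)
    (h1f : lin (minusForm k F a b) y (fV p) = α₁ • fV p + β₁ • eV p + z₁)
    (h2f : lin (minusForm k F a b) y (fV i) = fV i) (α₂ β₂ : F) (z₂ : Idx k → F)
    (hz₂ : z₂ ∈ (frame k F a b).W) (hβ₂ : β₂ ≠ 0)
    (h2e : lin (minusForm k F a b) y (eV p) = α₂ • eV p + β₂ • fV p + z₂)
    (hW : ∀ z ∈ (frame k F a b).W, ∃ s s' : F, z = s • z₁ + s' • z₂)
    (L : Subgroup (OG k F a b)) (ha : io A * y ∈ L) (hb : io B ∈ L) :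
    Cfsg.Omega F ⇑(minusForm k F a b) ≤ L := by
  obtain ⟨hA, hy⟩ := Cfsg.Agent.Helper18.Gen.mem_of_mul_mem_coprime L (io A) y hcomm n₁ n₂ h1 hy2 hcop ha
  have hSL : ∀ g : Matrix.SpecialLinearGroup (Fin k) F, (io g : OG k F a b) ∈ L := by
    intro g
    have hg : g ∈ Subgroup.closure ({A, B} : Set (Matrix.SpecialLinearGroup (Fin k) F)) := by
      rw [hAB]; exact Subgroup.mem_top _
    have : Subgroup.closure ({A, B} : Set (Matrix.SpecialLinearGroup (Fin k) F)) ≤ L.comap io := by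
      rw [Subgroup.closure_le]
      intro z hz
      rcases hz with rfl | rfl
      · exact hA
      · exact hb
    exact this hg
  have hpm : ∀ i j : Fin k, i ≠ j → ∀ t : F, (frame k F a b).xpm i j t ∈ L := by
    intro i j hij t
    rw [← io_transvection hij t]
    exact hSL _
  rw [Omega_eq hab (by omega)]
  exact frame_le_w (frame k F a b) (aniso hab) L hpm y y hy hy i p j hip hij hjp h1e α₁ β₁ z₁ hz₁ hβ₁ h1f
    h2f α₂ β₂ z₂ hz₂ hβ₂ h2e hW

/-- from "every subgroup containing `g1, g2` contains `Ω`" to two generators of `PΩ` -/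
theorem two_gen_PO (g1 g2 : OG k F a b) (h1 : g1 ∈ Cfsg.Omega F ⇑(minusForm k F a b))
    (h2 : g2 ∈ Cfsg.Omega F ⇑(minusForm k F a b))
    (h : ∀ L : Subgroup (OG k F a b), g1 ∈ L → g2 ∈ L → Cfsg.Omega F ⇑(minusForm k F a b) ≤ L) :
    ∃ g h : Cfsg.POmega F (Cfsg.quadFormMinus k F a b),
      Subgroup.closure ({g, h} : Set (Cfsg.POmega F (Cfsg.quadFormMinus k F a b))) = ⊤ := by
  set Ω := Cfsg.Omega F ⇑(minusForm k F a b) with hΩ
  set L := Subgroup.closure ({⟨g1, h1⟩, ⟨g2, h2⟩} : Set ↥Ω) with hL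
  have ha : (⟨g1, h1⟩ : ↥Ω) ∈ L := Subgroup.subset_closure (by simp)
  have hb : (⟨g2, h2⟩ : ↥Ω) ∈ L := Subgroup.subset_closure (by simp)
  have hle := h (L.map Ω.subtype) ⟨_, ha, rfl⟩ ⟨_, hb, rfl⟩
  have htop : L = ⊤ := by
    rw [eq_top_iff]
    intro x _
    obtain ⟨y, hy, hyx⟩ := hle x.2
    have : y = x := Subtype.ext hyx
    rw [← this]
    exact hy
  refine ⟨QuotientGroup.mk' (Subgroup.center ↥Ω) ⟨g1, h1⟩, QuotientGroup.mk' (Subgroup.center ↥Ω) ⟨g2, h2⟩, ?_⟩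
  have himg : Subgroup.map (QuotientGroup.mk' (Subgroup.center ↥Ω)) L = ⊤ := by
    rw [htop, ← MonoidHom.range_eq_map]
    exact MonoidHom.range_eq_top.2 (QuotientGroup.mk'_surjective _)
  rw [hL, MonoidHom.map_closure, Set.image_pair] at himg
  exact himg

section cases

variable [Fintype F] {n : ℕ}

omit [Fintype F] in
/-- `io (T_01(1))` fixes `e_j`, `f_j` for `j ≥ 2` -/
theorem io_x_fix (hn : 2 ≤ n) (x : Matrix.SpecialLinearGroup (Fin (n + 1)) F)
    (hx : (x : Matrix (Fin (n + 1)) (Fin (n + 1)) F) = Matrix.transvection (0 : Fin (n + 1)) (1 : Fin (n + 1)) 1)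
    (j : Fin (n + 1)) (hj : 2 ≤ j.val) :
    lin (minusForm (n + 1) F a b) (io x) (eV j) = eV j ∧
      lin (minusForm (n + 1) F a b) (io x) (fV j) = fV j := by
  have h1 : (1 : Fin (n + 1)).val = 1 := by
    rw [Fin.val_one']; exact Nat.mod_eq_of_lt (by omega)
  have hj1 : j ≠ 1 := by
    intro h; rw [h, h1] at hj; omega
  have hj0 : j ≠ 0 := by
    intro h; rw [h, Fin.val_zero] at hj; omega
  constructor
  · apply lin_io_eV_fix
    intro i
    rw [hx, Matrix.transvection, Matrix.add_apply, Matrix.single_apply,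
      if_neg (fun h => hj1 h.2.symm), add_zero, Matrix.one_apply]
  · apply lin_io_fV_fix
    intro i
    rw [hx, Matrix.transvection, Matrix.add_apply, Matrix.single_apply,
      if_neg (fun h => hj0 h.1.symm), add_zero, Matrix.one_apply]
    by_cases h : i = j
    · rw [if_pos h, if_pos h.symm]
    · rw [if_neg h, if_neg (fun h' => h h'.symm)]

omit [Fintype F] in
/-- `io (diag (c, c⁻¹, 1, …, 1))` fixes `e_j`, `f_j` for `j ≥ 2` -/
theorem io_h_fix (c : Fˣ) (h : Matrix.SpecialLinearGroup (Fin (n + 1)) F)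
    (hh : (h : Matrix (Fin (n + 1)) (Fin (n + 1)) F) = Matrix.diagonal
        (fun i => if i.val = 0 then (c : F) else if i.val = 1 then ((c⁻¹ : Fˣ) : F) else 1))
    (j : Fin (n + 1)) (hj : 2 ≤ j.val) :
    lin (minusForm (n + 1) F a b) (io h) (eV j) = eV j ∧
      lin (minusForm (n + 1) F a b) (io h) (fV j) = fV j := by
  have hd : (if j.val = 0 then (c : F) else if j.val = 1 then ((c⁻¹ : Fˣ) : F) else 1) = 1 := by
    rw [if_neg (by omega), if_neg (by omega)]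
  constructor
  · apply lin_io_eV_fix
    intro i
    rw [hh, Matrix.diagonal_apply]
    by_cases hij : i = j
    · subst hij; rw [if_pos rfl, if_pos rfl, hd]
    · rw [if_neg hij, if_neg hij]
  · apply lin_io_fV_fix
    intro i
    rw [hh, Matrix.diagonal_apply]
    by_cases hij : j = i
    · subst hij; rw [if_pos rfl, if_pos rfl, hd]
    · rw [if_neg hij, if_neg (fun h' => hij h'.symm)]

omit [Fintype F] in
theorem lin_io_comb (A : Matrix.SpecialLinearGroup (Fin k) F) (s t : F) :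
    lin (minusForm k F a b) (io A) (s • (w1 : Idx k → F) + t • w2) = s • (w1 : Idx k → F) + t • w2 := by
  rw [map_add, map_smul, map_smul, lin_io_w1, lin_io_w2]

/-- the second complement vector used for `yU`: `x w₁ + w₂` with `x = 1` if `a = 0` and `x = 0` otherwise -/
noncomputable def xpar (a : F) : F := by classical exact if a = 0 then 1 else 0

theorem two_xpar_add_ne
    (hab : ∀ z₁ z₂ : F, z₁ ^ 2 + a * z₁ * z₂ + b * z₂ ^ 2 = 0 → z₁ = 0 ∧ z₂ = 0) :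
    2 * xpar a + a ≠ 0 := by
  unfold xpar
  by_cases ha : a = 0
  · rw [if_pos ha, ha, add_zero, mul_one]
    intro h2
    -- characteristic two and `a = 0`: the form is a square, hence isotropic over a finite field
    exact a_ne_zero_of_aniso' h2 a b hab ha
  · rw [if_neg ha, mul_zero, zero_add]
    exact ha

omit [Fintype F] in
theorem Q_comb_ne
    (hab : ∀ z₁ z₂ : F, z₁ ^ 2 + a * z₁ * z₂ + b * z₂ ^ 2 = 0 → z₁ = 0 ∧ z₂ = 0) (s : F) :
    minusForm k F a b (s • (w1 : Idx k → F) + (1 : F) • w2) ≠ 0 := by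
  rw [Q_comb]
  intro h
  exact one_ne_zero (hab s 1 h).2

omit [Fintype F] in
theorem polar_w1_comb (s t : F) :
    polar ⇑(minusForm k F a b) (w1 : Idx k → F) (s • (w1 : Idx k → F) + t • w2) = 2 * s + a * t := by
  rw [polar_w1]
  simp only [Pi.add_apply, Pi.smul_apply, w1_0, w1_1, w2_0, w2_1, smul_eq_mul, mul_one, mul_zero, add_zero,
    zero_add]

theorem case_big
    (hab : ∀ z₁ z₂ : F, z₁ ^ 2 + a * z₁ * z₂ + b * z₂ ^ 2 = 0 → z₁ = 0 ∧ z₂ = 0)
    (hF : 3 < Fintype.card F) (hn : 2 ≤ n) :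
    ∃ g1 g2 : OG (n + 1) F a b, g1 ∈ Cfsg.Omega F ⇑(minusForm (n + 1) F a b) ∧
      g2 ∈ Cfsg.Omega F ⇑(minusForm (n + 1) F a b) ∧
      ∀ L : Subgroup (OG (n + 1) F a b), g1 ∈ L → g2 ∈ L →
        Cfsg.Omega F ⇑(minusForm (n + 1) F a b) ≤ L := by
  obtain ⟨c, hc⟩ := IsCyclic.exists_generator (α := Fˣ)
  obtain ⟨h, hh⟩ := Cfsg.Agent.Helper40.OPlus.exists_h c n (by omega)
  obtain ⟨w, hw⟩ := Cfsg.Agent.Helper40.OPlus.exists_w F n
  have h01 : (0 : Fin (n + 1)) ≠ 1 := by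
    intro h'
    have := congrArg Fin.val h'
    rw [Fin.val_zero, Fin.val_one'] at this
    rw [Nat.mod_eq_of_lt (by omega)] at this
    omega
  set x := Matrix.SpecialLinearGroup.transvection h01 (1 : F) with hxdef
  have hx : (x : Matrix (Fin (n + 1)) (Fin (n + 1)) F) = Matrix.transvection (0 : Fin (n + 1)) (1 : Fin (n + 1)) 1 := rfl
  have hAB := Cfsg.Agent.S2402.main hF n (by omega) c hc h x w hh hx hw
  set p : Fin (n + 1) := ⟨2, by omega⟩ with hp
  have h0p : (0 : Fin (n + 1)) ≠ p := by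
    intro h'; have := congrArg Fin.val h'; rw [Fin.val_zero] at this; simp [hp] at this
  have h1p : (1 : Fin (n + 1)) ≠ p := by
    intro h'; have := congrArg Fin.val h'; rw [Fin.val_one'] at this
    rw [Nat.mod_eq_of_lt (by omega)] at this; simp [hp] at this
  have hk : 3 ≤ n + 1 := by omega
  have hz : (w1 : Idx (n + 1) → F) ∈ (frame (n + 1) F a b).W := w1_mem_W
  have hz' : (xpar a • (w1 : Idx (n + 1) → F) + (1 : F) • w2) ∈ (frame (n + 1) F a b).W := comb_mem_W _ _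
  refine ⟨io h * yU p w1 (xpar a • w1 + (1 : F) • w2), io (x * w),
    mul_mem (io_mem_Omega hab (by omega) _) (yU_mem_Omega hab (by omega) _ _ _),
    io_mem_Omega hab (by omega) _, ?_⟩
  intro L h1 h2'
  have hcomm : Commute (io h : OG (n + 1) F a b) (yU p w1 (xpar a • w1 + (1 : F) • w2)) :=
    commute_yU _ p hz hz' (io_h_fix c h hh p (by simp [hp])).1 (io_h_fix c h hh p (by simp [hp])).2
      (lin_io_w1 h) (lin_io_comb h _ _)
  have hpow1 : (io h : OG (n + 1) F a b) ^ (Fintype.card F - 1) = 1 := by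
    rw [← map_pow, Cfsg.Agent.Helper40.OPlus.diag_pow_card_sub_one h _ _ hh, map_one]
    intro i
    split_ifs
    · exact c.ne_zero
    · exact (c⁻¹).ne_zero
    · exact one_ne_zero
  have hpow2 : (yU p w1 (xpar a • w1 + (1 : F) • w2) : OG (n + 1) F a b) ^ (Fintype.card F) = 1 :=
    yU_pow p hz hz' _ (Nat.cast_card_eq_zero F)
  have hcop : Nat.Coprime (Fintype.card F - 1) (Fintype.card F) := by
    have : Fintype.card F - 1 + 1 = Fintype.card F := by
      have := Fintype.card_pos (α := F)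
      omega
    rw [← this]
    simp
  have hQz : minusForm (n + 1) F a b (w1 : Idx (n + 1) → F) = 1 := Q_w1
  have hQz' : minusForm (n + 1) F a b (xpar a • (w1 : Idx (n + 1) → F) + (1 : F) • w2) ≠ 0 :=
    Q_comb_ne hab _
  have hB : polar ⇑(minusForm (n + 1) F a b) (w1 : Idx (n + 1) → F)
      (xpar a • (w1 : Idx (n + 1) → F) + (1 : F) • w2) ≠ 0 := by
    rw [polar_w1_comb, mul_one]
    exact two_xpar_add_ne hab
  refine gen_of hab hk h (x * w) hAB (yU p w1 (xpar a • w1 + (1 : F) • w2)) hcomm _ _ hpow1 hpow2 hcop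
    0 p 1 h0p h01 h1p (yU_fix_eV h0p hz hz') _ _ _
    ((frame (n + 1) F a b).W.add_mem ((frame (n + 1) F a b).W.neg_mem hz)
      ((frame (n + 1) F a b).W.smul_mem _ hz')) ?_ (yU_fV p hz hz')
    (yU_fix_fV h0p hz hz') _ _ _
    ((frame (n + 1) F a b).W.add_mem ((frame (n + 1) F a b).W.smul_mem _ hz')
      ((frame (n + 1) F a b).W.smul_mem _ hz)) ?_ (yU_eV p hz hz') ?_ L h1 h2'
  · rw [hQz]
    exact neg_ne_zero.2 one_ne_zero
  · rw [hQz, one_mul]
    exact neg_ne_zero.2 (pow_ne_zero 2 hQz')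
  · intro z hzW
    set B := polar ⇑(minusForm (n + 1) F a b) (w1 : Idx (n + 1) → F)
      (xpar a • (w1 : Idx (n + 1) → F) + (1 : F) • w2) with hBdef
    set Q' := minusForm (n + 1) F a b (xpar a • (w1 : Idx (n + 1) → F) + (1 : F) • w2) with hQ'def
    have e1 : -(w1 : Idx (n + 1) → F) + minusForm (n + 1) F a b (w1 : Idx (n + 1) → F)
          • (xpar a • (w1 : Idx (n + 1) → F) + (1 : F) • w2)
        = (xpar a - 1) • (w1 : Idx (n + 1) → F) + (1 : F) • w2 := by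
      rw [hQz]
      module
    have e2 : (-(B + minusForm (n + 1) F a b (w1 : Idx (n + 1) → F) * Q'))
          • (xpar a • (w1 : Idx (n + 1) → F) + (1 : F) • w2) + Q' • (w1 : Idx (n + 1) → F)
        = (-(B + Q') * xpar a + Q') • (w1 : Idx (n + 1) → F) + (-(B + Q')) • w2 := by
      rw [hQz]
      module
    rw [e1, e2]
    apply span_W _ _ _ _ _ z hzW
    have : (xpar a - 1) * -(B + Q') - 1 * (-(B + Q') * xpar a + Q') = B := by ring
    rw [this]
    exact hB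

theorem case_small
    (hab : ∀ z₁ z₂ : F, z₁ ^ 2 + a * z₁ * z₂ + b * z₂ ^ 2 = 0 → z₁ = 0 ∧ z₂ = 0)
    (hF : Fintype.card F ≤ 3) (hn : 2 ≤ n) :
    ∃ g1 g2 : OG (n + 1) F a b, g1 ∈ Cfsg.Omega F ⇑(minusForm (n + 1) F a b) ∧
      g2 ∈ Cfsg.Omega F ⇑(minusForm (n + 1) F a b) ∧
      ∀ L : Subgroup (OG (n + 1) F a b), g1 ∈ L → g2 ∈ L →
        Cfsg.Omega F ⇑(minusForm (n + 1) F a b) ≤ L := by
  obtain ⟨w, hw⟩ := Cfsg.Agent.Helper40.OPlus.exists_w F n
  have h01 : (0 : Fin (n + 1)) ≠ 1 := by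
    intro h'
    have := congrArg Fin.val h'
    rw [Fin.val_zero, Fin.val_one'] at this
    rw [Nat.mod_eq_of_lt (by omega)] at this
    omega
  set x := Matrix.SpecialLinearGroup.transvection h01 (1 : F) with hxdef
  have hx : (x : Matrix (Fin (n + 1)) (Fin (n + 1)) F) = Matrix.transvection (0 : Fin (n + 1)) (1 : Fin (n + 1)) 1 := rfl
  have hAB := Cfsg.Agent.S2403.gen_top hF (by omega) x w hx hw
  set p : Fin (n + 1) := ⟨2, by omega⟩ with hp
  have h0p : (0 : Fin (n + 1)) ≠ p := by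
    intro h'; have := congrArg Fin.val h'; rw [Fin.val_zero] at this; simp [hp] at this
  have h1p : (1 : Fin (n + 1)) ≠ p := by
    intro h'; have := congrArg Fin.val h'; rw [Fin.val_one'] at this
    rw [Nat.mod_eq_of_lt (by omega)] at this; simp [hp] at this
  have hk : 3 ≤ n + 1 := by omega
  have hz : (w1 : Idx (n + 1) → F) ∈ (frame (n + 1) F a b).W := w1_mem_W
  have hz' : (a • (w1 : Idx (n + 1) → F) + w2) ∈ (frame (n + 1) F a b).W :=
    (frame (n + 1) F a b).W.add_mem ((frame (n + 1) F a b).W.smul_mem a w1_mem_W) w2_mem_W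
  have hxpm : (io x : OG (n + 1) F a b) = (frame (n + 1) F a b).xpm 0 1 1 := io_transvection h01 1
  refine ⟨io x * yE p w1 (a • w1 + w2), io w,
    mul_mem (io_mem_Omega hab (by omega) _) (yE_mem_Omega hab (by omega) _ _ _),
    io_mem_Omega hab (by omega) _, ?_⟩
  intro L h1 h2'
  have hfixz' : lin (minusForm (n + 1) F a b) (io x) (a • (w1 : Idx (n + 1) → F) + w2)
      = a • (w1 : Idx (n + 1) → F) + w2 := by
    rw [map_add, map_smul, lin_io_w1, lin_io_w2]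
  have hcomm : Commute (io x : OG (n + 1) F a b) (yE p w1 (a • w1 + w2)) :=
    commute_yE _ p hz hz' (io_x_fix hn x hx p (by simp [hp])).1 (io_x_fix hn x hx p (by simp [hp])).2
      (lin_io_w1 x) hfixz'
  have hpow1 : (io x : OG (n + 1) F a b) ^ (Fintype.card F) = 1 := by
    rw [hxpm, (frame (n + 1) F a b).xpm_pow h01, Nat.cast_card_eq_zero, zero_mul, HFrame.xpm_zero]
  have hcop : Nat.Coprime (Fintype.card F) 5 := by
    have h2 := Fintype.one_lt_card (α := F)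
    have : Fintype.card F = 2 ∨ Fintype.card F = 3 := by omega
    rcases this with h | h <;> rw [h] <;> decide
  have hQz : minusForm (n + 1) F a b (w1 : Idx (n + 1) → F) = 1 := Q_w1
  have hQz' : minusForm (n + 1) F a b (a • (w1 : Idx (n + 1) → F) + w2) ≠ 0 := by
    have := Q_comb_ne (k := n + 1) hab a
    rwa [one_smul] at this
  refine gen_of hab hk x w hAB (yE p w1 (a • w1 + w2)) hcomm _ 5 hpow1 (y5_pow_five hF hab p) hcop
    0 p 1 h0p h01 h1p (yE_fix_eV h0p hz hz') _ _ _ ((frame (n + 1) F a b).W.neg_mem hz) ?_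
    (yE_fV p hz hz') (yE_fix_fV h0p hz hz') _ _ _
    ((frame (n + 1) F a b).W.sub_mem ((frame (n + 1) F a b).W.smul_mem _ hz) hz') ?_
    (yE_eV p hz hz') ?_ L h1 h2'
  · rw [hQz]
    exact neg_ne_zero.2 one_ne_zero
  · exact neg_ne_zero.2 hQz'
  · intro z hzW
    set Q' := minusForm (n + 1) F a b (a • (w1 : Idx (n + 1) → F) + w2) with hQ'def
    have e1 : -(w1 : Idx (n + 1) → F) = (-1 : F) • (w1 : Idx (n + 1) → F) + (0 : F) • w2 := by
      module
    have e2 : Q' • (w1 : Idx (n + 1) → F) - (a • (w1 : Idx (n + 1) → F) + w2)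
        = (Q' - a) • (w1 : Idx (n + 1) → F) + (-1 : F) • w2 := by
      module
    rw [e1, e2]
    apply span_W _ _ _ _ _ z hzW
    have : (-1 : F) * -1 - 0 * (Q' - a) = 1 := by ring
    rw [this]
    exact one_ne_zero

/-- `PΩ⁻_{2k+2}(q)`, `k ≥ 3`, is generated by two elements -/
theorem two_generated
    (hab : ∀ z₁ z₂ : F, z₁ ^ 2 + a * z₁ * z₂ + b * z₂ ^ 2 = 0 → z₁ = 0 ∧ z₂ = 0) (hk : 3 ≤ k) :
    ∃ g h : Cfsg.POmega F (Cfsg.quadFormMinus k F a b),
      Subgroup.closure ({g, h} : Set (Cfsg.POmega F (Cfsg.quadFormMinus k F a b))) = ⊤ := by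
  obtain ⟨n, rfl⟩ : ∃ n, k = n + 1 := ⟨k - 1, by omega⟩
  by_cases hF : 3 < Fintype.card F
  · obtain ⟨g1, g2, h1, h2', h⟩ := case_big hab hF (n := n) (by omega)
    exact two_gen_PO g1 g2 h1 h2' h
  · obtain ⟨g1, g2, h1, h2', h⟩ := case_small hab (not_lt.1 hF) (n := n) (by omega)
    exact two_gen_PO g1 g2 h1 h2' h

end cases

end Cfsg.Agent.Helper88.OMinus
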