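import Cfsg.Agent.Helper55.OMinusIOTA
import Cfsg.Agent.Helper55.OMinusY5
import Cfsg.Agent.Helper87.OMinusYU
import Cfsg.Agent.Helper87.OMinusYE

/-!
# The farmed pieces for S2415 (helper88), restated in this namespace
(M-IOTA), (M-Y5): helper55; (M-YU), (M-YE): helper87.
-/

set_option autoImplicit false

namespace Cfsg.Agent.Helper88.OMinus

open Matrix QuadraticMap Cfsg.Agent.Helper44 Cfsg.Agent.Helper45.OmegaParity Cfsg.Agent.Helper5
open Cfsg.Agent.Helper40.Frame

variable {F : Type*} [Field F] {k : ℕ} {a b : F}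

/-! ## (M-IOTA) `Cfsg/Agent/<You>/OMinusIota.lean` : port of `Cfsg/Agent/Helper40/OOdd/Iota.lean` -/

theorem io_transvection {i j : Fin k} (hij : i ≠ j) (t : F) :
    (io (Matrix.SpecialLinearGroup.transvection hij t) : OG k F a b) = (frame k F a b).xpm i j t := by
  exact Cfsg.Agent.Helper55.OMinus.io_transvection hij t

/-- if the `j`-th column of `A` is the `j`-th unit vector then `io A` fixes `e_j` -/
theorem lin_io_eV_fix (A : Matrix.SpecialLinearGroup (Fin k) F) (j : Fin k)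
    (h : ∀ i, A.1 i j = if i = j then 1 else 0) :
    lin (minusForm k F a b) (io A) (eV j) = eV j := by
  exact Cfsg.Agent.Helper55.OMinus.lin_io_eV_fix A j h

/-- if the `j`-th row of `A` is the `j`-th unit vector then `io A` fixes `f_j` -/
theorem lin_io_fV_fix (A : Matrix.SpecialLinearGroup (Fin k) F) (j : Fin k)
    (h : ∀ i, A.1 j i = if i = j then 1 else 0) :
    lin (minusForm k F a b) (io A) (fV j) = fV j := by
  exact Cfsg.Agent.Helper55.OMinus.lin_io_fV_fix A j h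

theorem lin_io_w1 (A : Matrix.SpecialLinearGroup (Fin k) F) :
    lin (minusForm k F a b) (io A) w1 = w1 := by
  exact Cfsg.Agent.Helper55.OMinus.lin_io_w1 A

theorem lin_io_w2 (A : Matrix.SpecialLinearGroup (Fin k) F) :
    lin (minusForm k F a b) (io A) w2 = w2 := by
  exact Cfsg.Agent.Helper55.OMinus.lin_io_w2 A

theorem io_mem_Omega [Fintype F]
    (hab : ∀ z₁ z₂ : F, z₁ ^ 2 + a * z₁ * z₂ + b * z₂ ^ 2 = 0 → z₁ = 0 ∧ z₂ = 0) (hk : 2 ≤ k)
    (A : Matrix.SpecialLinearGroup (Fin k) F) :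
    (io A : OG k F a b) ∈ Cfsg.Omega F ⇑(minusForm k F a b) := by
  exact Cfsg.Agent.Helper55.OMinus.io_mem_Omega hab hk A

/-! ## (M-YU) `Cfsg/Agent/<You>/OMinusYU.lean` : the unipotent element `yU p z z'` -/

theorem yU_fV (p : Fin k) {z z' : Idx k → F} (hz : z ∈ (frame k F a b).W) (hz' : z' ∈ (frame k F a b).W) :
    lin (minusForm k F a b) (yU p z z') (fV p)
      = (1 - polar ⇑(minusForm k F a b) z z' + minusForm k F a b z * minusForm k F a b z') • fV p
        + (-(minusForm k F a b z)) • eV p + (-z + minusForm k F a b z • z') := by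
  exact Cfsg.Agent.Helper87.OMinus.yU_fV p hz hz'

theorem yU_eV (p : Fin k) {z z' : Idx k → F} (hz : z ∈ (frame k F a b).W) (hz' : z' ∈ (frame k F a b).W) :
    lin (minusForm k F a b) (yU p z z') (eV p)
      = (1 + polar ⇑(minusForm k F a b) z z' + minusForm k F a b z * minusForm k F a b z') • eV p
        + (-(minusForm k F a b z * minusForm k F a b z' ^ 2)) • fV p
        + ((-(polar ⇑(minusForm k F a b) z z' + minusForm k F a b z * minusForm k F a b z')) • z'
            + minusForm k F a b z' • z) := by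
  exact Cfsg.Agent.Helper87.OMinus.yU_eV p hz hz'

theorem yU_fix_eV {i p : Fin k} (hip : i ≠ p) {z z' : Idx k → F} (hz : z ∈ (frame k F a b).W)
    (hz' : z' ∈ (frame k F a b).W) :
    lin (minusForm k F a b) (yU p z z') (eV i) = eV i := by
  exact Cfsg.Agent.Helper87.OMinus.yU_fix_eV hip hz hz'

theorem yU_fix_fV {i p : Fin k} (hip : i ≠ p) {z z' : Idx k → F} (hz : z ∈ (frame k F a b).W)
    (hz' : z' ∈ (frame k F a b).W) :
    lin (minusForm k F a b) (yU p z z') (fV i) = fV i := by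
  exact Cfsg.Agent.Helper87.OMinus.yU_fix_fV hip hz hz'

theorem yU_pow (p : Fin k) {z z' : Idx k → F} (hz : z ∈ (frame k F a b).W)
    (hz' : z' ∈ (frame k F a b).W) (n : ℕ) (hn : (n : F) = 0) :
    (yU p z z' : OG k F a b) ^ n = 1 := by
  exact Cfsg.Agent.Helper87.OMinus.yU_pow p hz hz' n hn

/-- an isometry fixing `e_p`, `f_p`, `z`, `z'` commutes with `yU p z z'` -/
theorem commute_yU (g : OG k F a b) (p : Fin k) {z z' : Idx k → F} (hz : z ∈ (frame k F a b).W)
    (hz' : z' ∈ (frame k F a b).W)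
    (h1 : lin (minusForm k F a b) g (eV p) = eV p) (h2 : lin (minusForm k F a b) g (fV p) = fV p)
    (h3 : lin (minusForm k F a b) g z = z) (h4 : lin (minusForm k F a b) g z' = z') :
    Commute g (yU p z z') := by
  exact Cfsg.Agent.Helper87.OMinus.commute_yU g p hz hz' h1 h2 h3 h4

theorem yU_mem_Omega [Fintype F]
    (hab : ∀ z₁ z₂ : F, z₁ ^ 2 + a * z₁ * z₂ + b * z₂ ^ 2 = 0 → z₁ = 0 ∧ z₂ = 0) (hk : 2 ≤ k)
    (p : Fin k) (z z' : Idx k → F) :
    (yU p z z' : OG k F a b) ∈ Cfsg.Omega F ⇑(minusForm k F a b) := by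
  exact Cfsg.Agent.Helper87.OMinus.yU_mem_Omega hab hk p z z'

/-! ## (M-YE) `Cfsg/Agent/<You>/OMinusYE.lean` : the element `yE p z z' = E(e_p, z) E(f_p, z')` -/

theorem yE_fV (p : Fin k) {z z' : Idx k → F} (hz : z ∈ (frame k F a b).W) (hz' : z' ∈ (frame k F a b).W) :
    lin (minusForm k F a b) (yE p z z') (fV p)
      = (1 : F) • fV p + (-(minusForm k F a b z)) • eV p + (-z) := by
  exact Cfsg.Agent.Helper87.OMinus.yE_fV p hz hz'

theorem yE_eV (p : Fin k) {z z' : Idx k → F} (hz : z ∈ (frame k F a b).W) (hz' : z' ∈ (frame k F a b).W) :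
    lin (minusForm k F a b) (yE p z z') (eV p)
      = (1 - polar ⇑(minusForm k F a b) z z' + minusForm k F a b z * minusForm k F a b z') • eV p
        + (-(minusForm k F a b z')) • fV p + (minusForm k F a b z' • z - z') := by
  exact Cfsg.Agent.Helper87.OMinus.yE_eV p hz hz'

theorem yE_fix_eV {i p : Fin k} (hip : i ≠ p) {z z' : Idx k → F} (hz : z ∈ (frame k F a b).W)
    (hz' : z' ∈ (frame k F a b).W) :
    lin (minusForm k F a b) (yE p z z') (eV i) = eV i := by
  exact Cfsg.Agent.Helper87.OMinus.yE_fix_eV hip hz hz'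

theorem yE_fix_fV {i p : Fin k} (hip : i ≠ p) {z z' : Idx k → F} (hz : z ∈ (frame k F a b).W)
    (hz' : z' ∈ (frame k F a b).W) :
    lin (minusForm k F a b) (yE p z z') (fV i) = fV i := by
  exact Cfsg.Agent.Helper87.OMinus.yE_fix_fV hip hz hz'

/-- an isometry fixing `e_p`, `f_p`, `z`, `z'` commutes with `yE p z z'` -/
theorem commute_yE (g : OG k F a b) (p : Fin k) {z z' : Idx k → F} (hz : z ∈ (frame k F a b).W)
    (hz' : z' ∈ (frame k F a b).W)
    (h1 : lin (minusForm k F a b) g (eV p) = eV p) (h2 : lin (minusForm k F a b) g (fV p) = fV p)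
    (h3 : lin (minusForm k F a b) g z = z) (h4 : lin (minusForm k F a b) g z' = z') :
    Commute g (yE p z z') := by
  exact Cfsg.Agent.Helper87.OMinus.commute_yE g p hz hz' h1 h2 h3 h4

theorem yE_mem_Omega [Fintype F]
    (hab : ∀ z₁ z₂ : F, z₁ ^ 2 + a * z₁ * z₂ + b * z₂ ^ 2 = 0 → z₁ = 0 ∧ z₂ = 0) (hk : 2 ≤ k)
    (p : Fin k) (z z' : Idx k → F) :
    (yE p z z' : OG k F a b) ∈ Cfsg.Omega F ⇑(minusForm k F a b) := by
  exact Cfsg.Agent.Helper87.OMinus.yE_mem_Omega hab hk p z z'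

/-! ## (M-Y5) `Cfsg/Agent/<You>/OMinusY5.lean` : `yE p w₁ (a w₁ + w₂)` has order dividing `5` when `|F| ≤ 3` -/

theorem y5_pow_five [Fintype F] (hF : Fintype.card F ≤ 3)
    (hab : ∀ z₁ z₂ : F, z₁ ^ 2 + a * z₁ * z₂ + b * z₂ ^ 2 = 0 → z₁ = 0 ∧ z₂ = 0) (p : Fin k) :
    (yE p w1 (a • w1 + w2) : OG k F a b) ^ 5 = 1 := by
  exact Cfsg.Agent.Helper55.OMinus.y5_pow_five hF hab p

end Cfsg.Agent.Helper88.OMinus
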