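import Cfsg.Agent.Helper88.OMinus.Defs

/-!
# The elements `yU`, `yE` of `Ω⁻_{2k+2}` (helper88, for S2415): definitions
-/

set_option autoImplicit false

namespace Cfsg.Agent.Helper88.OMinus

open Matrix QuadraticMap Cfsg.Agent.Helper44 Cfsg.Agent.Helper45.OmegaParity Cfsg.Agent.Helper5
open Cfsg.Agent.Helper40.Frame

variable {F : Type*} [Field F] {k : ℕ} {a b : F}

/-- `x_{ε_p}(z) = E(e_p, z)` -/
noncomputable def xE (p : Fin k) (z : Idx k → F) : OG k F a b := (frame k F a b).xe p z

/-- `x_{-ε_p}(z) = E(f_p, z)` -/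
noncomputable def xF (p : Fin k) (z : Idx k → F) : OG k F a b := (frame k F a b).xf p z

/-- the unipotent choice (used for `|F| > 3`): `E(f_p, z') E(e_p, z) E(f_p, z')⁻¹` -/
noncomputable def yU (p : Fin k) (z z' : Idx k → F) : OG k F a b := xF p z' * xE p z * xF p (-z')

/-- the choice for `|F| ≤ 3` (of order `5` for `z = w₁`, `z' = a w₁ + w₂`) -/
noncomputable def yE (p : Fin k) (z z' : Idx k → F) : OG k F a b := xE p z * xF p z'

end Cfsg.Agent.Helper88.OMinus
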